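import Mathlib

/-!
# The 2-adic valuation of the orders of classical groups
-/

set_option autoImplicit false

namespace Cfsg.Agent.SylowAbel

variable {q : ℕ}

theorem factorization_two (n : ℕ) : n.factorization 2 = padicValNat 2 n :=
  Nat.factorization_def _ Nat.prime_two

theorem pow_sub_one_ne (hq : 1 < q) {n : ℕ} (hn : n ≠ 0) : q ^ n - 1 ≠ 0 :=
  Nat.sub_ne_zero_of_lt (Nat.one_lt_pow hn hq)

theorem val_even (hq : 1 < q) (hodd : Odd q) (i : ℕ) :
    padicValNat 2 (q ^ (2 * (i + 1)) - 1) = padicValNat 2 (q ^ 2 - 1) + padicValNat 2 (i + 1) := by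
  haveI : Fact (Nat.Prime 2) := ⟨Nat.prime_two⟩
  have h2 : ¬ 2 ∣ q := by obtain ⟨r, rfl⟩ := hodd; omega
  have h := padicValNat.pow_two_sub_one (n := 2 * (i + 1)) hq h2 (by omega) ⟨i + 1, by ring⟩
  have h' := padicValNat.pow_two_sub_one (n := 2) hq h2 (by omega) even_two
  rw [padicValNat.mul (by norm_num) (by omega), padicValNat_self] at h
  rw [padicValNat_self] at h'
  omega

theorem val_odd (hq : 1 < q) (hodd : Odd q) (i : ℕ) :
    padicValNat 2 (q ^ (2 * i + 1) - 1) = padicValNat 2 (q - 1) := by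
  haveI : Fact (Nat.Prime 2) := ⟨Nat.prime_two⟩
  have hs : (∑ k ∈ Finset.range (2 * i + 1), q ^ k) * (q - 1) = q ^ (2 * i + 1) - 1 :=
    geom_sum_mul_of_one_le hq.le _
  have h2 : ¬ 2 ∣ ∑ k ∈ Finset.range (2 * i + 1), q ^ k := by
    rw [← ZMod.natCast_eq_zero_iff, Nat.cast_sum]
    have hq1 : (q : ZMod 2) = 1 := ZMod.natCast_eq_one_iff_odd.2 hodd
    simp only [Nat.cast_pow, hq1, one_pow, Finset.sum_const, Finset.card_range, nsmul_one]
    rw [ZMod.natCast_eq_zero_iff]
    omega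
  rw [← hs, padicValNat.mul (fun h => h2 (by rw [h]; exact dvd_zero _)) (by omega),
    padicValNat.eq_zero_of_not_dvd h2, zero_add]

theorem val_sp (hq : 1 < q) (hodd : Odd q) (m : ℕ) :
    padicValNat 2 (q ^ (m ^ 2) * ∏ i ∈ Finset.range m, (q ^ (2 * (i + 1)) - 1)) =
      m * padicValNat 2 (q ^ 2 - 1) + padicValNat 2 m.factorial := by
  haveI : Fact (Nat.Prime 2) := ⟨Nat.prime_two⟩
  have h2 : ¬ 2 ∣ q := by obtain ⟨r, rfl⟩ := hodd; omega
  have hne : ∀ n, ∏ i ∈ Finset.range n, (q ^ (2 * (i + 1)) - 1) ≠ 0 := fun n =>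
    Finset.prod_ne_zero_iff.2 fun i _ => pow_sub_one_ne hq (by omega)
  rw [padicValNat.mul (pow_ne_zero _ (by omega)) (hne m),
    padicValNat.eq_zero_of_not_dvd (fun h => h2 (Nat.prime_two.dvd_of_dvd_pow h)), zero_add]
  induction m with
  | zero => simp
  | succ m ih =>
    rw [Finset.prod_range_succ, padicValNat.mul (hne m) (pow_sub_one_ne hq (by omega)), ih,
      val_even hq hodd, Nat.factorial_succ, padicValNat.mul (by omega) (Nat.factorial_ne_zero m)]
    ring

/-- The valuation of the order of `GL_n(q)`. -/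
def glVal (q n : ℕ) : ℕ := ∑ i ∈ Finset.range n, padicValNat 2 (q ^ (i + 1) - 1)

theorem val_gl (hq : 1 < q) (hodd : Odd q) (n : ℕ) :
    padicValNat 2 (∏ i : Fin n, (q ^ n - q ^ (i : ℕ))) = glVal q n := by
  haveI : Fact (Nat.Prime 2) := ⟨Nat.prime_two⟩
  have h2 : ¬ 2 ∣ q := by obtain ⟨r, rfl⟩ := hodd; omega
  have hstep : ∀ i ∈ Finset.range n, q ^ n - q ^ i ≠ 0 ∧
      padicValNat 2 (q ^ n - q ^ i) = padicValNat 2 (q ^ (n - i) - 1) := by
    intro i hi
    rw [Finset.mem_range] at hi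
    have he : q ^ n - q ^ i = q ^ i * (q ^ (n - i) - 1) := by
      rw [Nat.mul_sub, mul_one, ← pow_add, Nat.add_sub_cancel' hi.le]
    have h1 : q ^ i ≠ 0 := pow_ne_zero _ (by omega)
    have h3 : q ^ (n - i) - 1 ≠ 0 := pow_sub_one_ne hq (by omega)
    refine ⟨by rw [he]; exact mul_ne_zero h1 h3, ?_⟩
    rw [he, padicValNat.mul h1 h3,
      padicValNat.eq_zero_of_not_dvd (fun h => h2 (Nat.prime_two.dvd_of_dvd_pow h)), zero_add]
  rw [← Finset.prod_range fun i => q ^ n - q ^ i, ← factorization_two,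
    Nat.factorization_prod fun i hi => (hstep i hi).1, Finsupp.finset_sum_apply]
  rw [Finset.sum_congr rfl fun i hi => (factorization_two _).trans (hstep i hi).2, glVal,
    ← Finset.sum_range_reflect (fun i => padicValNat 2 (q ^ (i + 1) - 1)) n]
  refine Finset.sum_congr rfl fun i hi => ?_
  rw [Finset.mem_range] at hi
  rw [show n - 1 - i + 1 = n - i by omega]

theorem glVal_even (hq : 1 < q) (hodd : Odd q) (m : ℕ) :
    glVal q (2 * m) = m * (padicValNat 2 (q - 1) + padicValNat 2 (q ^ 2 - 1)) +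
      padicValNat 2 m.factorial := by
  haveI : Fact (Nat.Prime 2) := ⟨Nat.prime_two⟩
  induction m with
  | zero => simp [glVal]
  | succ m ih =>
    rw [glVal, show 2 * (m + 1) = 2 * m + 1 + 1 by ring, Finset.sum_range_succ, Finset.sum_range_succ,
      ← glVal, ih, val_odd hq hodd m, show 2 * m + 1 + 1 = 2 * (m + 1) by ring, val_even hq hodd m,
      Nat.factorial_succ, padicValNat.mul (by omega) (Nat.factorial_ne_zero m)]
    ring

theorem glVal_odd (hq : 1 < q) (hodd : Odd q) (m : ℕ) :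
    glVal q (2 * m + 1) = glVal q (2 * m) + padicValNat 2 (q - 1) := by
  rw [glVal, Finset.sum_range_succ, ← glVal, val_odd hq hodd m]

end Cfsg.Agent.SylowAbel
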