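import Cfsg.Agent.SylowAbel.Wreath
import Cfsg.Agent.SylowAbel.Valuation
import Cfsg.Agent.GroupSub.SpFourQuat
import Cfsg.Agent.Classical.Linear2
import Cfsg.Agent.Classical.LinearBasic

/-!
# Monomial block matrices and the planar Sylow 2-subgroups
-/

set_option autoImplicit false
set_option maxHeartbeats 400000

namespace Cfsg.Agent.SylowAbel

open Matrix
open scoped commutatorElement

section Block

variable {F : Type*} [CommRing F] {A : Type*} [Group A] {m o : Type*} [Fintype m] [DecidableEq m]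
  [Fintype o] [DecidableEq o]

/-- Permuting the blocks. -/
def blkPerm (σ : Equiv.Perm o) : Equiv.Perm (m × o) := (Equiv.refl m).prodCongr σ

theorem blkPerm_mul (σ τ : Equiv.Perm o) :
    blkPerm (m := m) (σ * τ) = blkPerm σ * blkPerm τ := rfl

theorem blkPerm_symm (σ : Equiv.Perm o) (x : m × o) : (blkPerm σ).symm x = (x.1, σ.symm x.2) := rfl

theorem conj_perm (σ : Equiv.Perm o) (f : o → Matrix m m F) :
    Matrix.permMatrixHom (blkPerm σ) * blockDiagonal f =
      blockDiagonal (fun k => f (σ.symm k)) * Matrix.permMatrixHom (blkPerm (m := m) σ) := by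
  show ((blkPerm σ)⁻¹).permMatrix F * _ = _ * ((blkPerm σ)⁻¹).permMatrix F
  simp only [Equiv.Perm.permMatrix, PEquiv.toMatrix_toPEquiv_mul, PEquiv.mul_toMatrix_toPEquiv]
  ext ⟨i, k⟩ ⟨j, l⟩
  simp [blkPerm, Matrix.submatrix_apply, Matrix.blockDiagonal_apply, Equiv.Perm.inv_def,
    Equiv.symm_apply_eq]

/-- The monomial block matrix. -/
noncomputable def wrHom (θ : A →* Matrix m m F) : Wr A o →* Matrix (m × o) (m × o) F where
  toFun x := blockDiagonal (fun k => θ (x.left k)) * Matrix.permMatrixHom (blkPerm x.right)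
  map_one' := by
    rw [SemidirectProduct.one_left, SemidirectProduct.one_right,
      show blkPerm (m := m) (1 : Equiv.Perm o) = 1 from rfl, map_one, mul_one]
    simp [← Pi.one_def]
  map_mul' x y := by
    have h : (blockDiagonal fun k => θ ((x * y).left k)) =
        blockDiagonal (fun k => θ (x.left k)) * blockDiagonal (fun k => θ (y.left (x.right.symm k))) := by
      rw [← blockDiagonal_mul]
      congr 1
      funext k
      exact map_mul θ _ _
    rw [SemidirectProduct.mul_right, blkPerm_mul, map_mul, h]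
    simp only [mul_assoc]
    rw [← mul_assoc (Matrix.permMatrixHom (blkPerm x.right)) (blockDiagonal fun k => θ (y.left k)),
      conj_perm, mul_assoc]

theorem wrHom_apply (θ : A →* Matrix m m F) (x : Wr A o) :
    wrHom θ x = blockDiagonal (fun k => θ (x.left k)) * Matrix.permMatrixHom (blkPerm x.right) := rfl

omit [DecidableEq m] in
theorem sign_blkPerm [DecidableEq m] (σ : Equiv.Perm o) :
    Equiv.Perm.sign (blkPerm (m := m) σ) = Equiv.Perm.sign σ ^ Fintype.card m := by
  rw [show blkPerm (m := m) σ = Equiv.prodCongrRight fun _ => σ from rfl,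
    Equiv.Perm.sign_prodCongrRight]
  simp

theorem det_wrHom (θ : A →* Matrix m m F) (x : Wr A o) (hm : Even (Fintype.card m)) :
    (wrHom θ x).det = ∏ k, (θ (x.left k)).det := by
  rw [wrHom_apply, Matrix.det_mul, Matrix.det_blockDiagonal]
  show _ * ((blkPerm x.right)⁻¹.permMatrix F).det = _
  rw [Matrix.det_permutation, Equiv.Perm.sign_inv, sign_blkPerm]
  obtain ⟨r, hr⟩ := hm
  rw [hr, ← two_mul, pow_mul, Int.units_sq, one_pow]
  simp

theorem wrHom_injective [Nontrivial F] [Nonempty m] (θ : A →* Matrix m m F) (hθ : Function.Injective θ) :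
    Function.Injective (wrHom (o := o) θ) := by
  rw [injective_iff_map_eq_one]
  intro x hx
  have h1 : blockDiagonal (fun k => θ (x.left k)) = Matrix.permMatrixHom (blkPerm (x.right⁻¹)) := by
    have h2 : Matrix.permMatrixHom (blkPerm (m := m) x.right) *
        (Matrix.permMatrixHom (blkPerm x.right⁻¹) : Matrix (m × o) (m × o) F) = 1 := by
      rw [← map_mul, ← blkPerm_mul, mul_inv_cancel, show blkPerm (m := m) (1 : Equiv.Perm o) = 1 from rfl,
        map_one]
    calc blockDiagonal (fun k => θ (x.left k)) = wrHom θ x * Matrix.permMatrixHom (blkPerm x.right⁻¹) := by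
          rw [wrHom_apply, mul_assoc, h2, mul_one]
      _ = _ := by rw [hx, one_mul]
  have key : ∀ (i j : m) (k l : o), (if k = l then θ (x.left k) i j else 0) =
      (if x.right k = l then (if i = j then (1 : F) else 0) else 0) := fun i j k l => by
    have := congrFun (congrFun h1 (i, k)) (j, l)
    rw [Matrix.blockDiagonal_apply] at this
    rw [this]
    show ((blkPerm x.right⁻¹)⁻¹.permMatrix F) (i, k) (j, l) = _
    rw [show (blkPerm (m := m) x.right⁻¹)⁻¹ = blkPerm x.right from rfl]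
    simp [Equiv.Perm.permMatrix, PEquiv.toMatrix_apply, Equiv.toPEquiv_apply, blkPerm]
    split_ifs <;> simp_all
  have hr : ∀ k, x.right k = k := by
    intro k
    by_contra hne
    obtain ⟨i⟩ := ‹Nonempty m›
    have := key i i k (x.right k)
    rw [if_neg (Ne.symm hne), if_pos rfl, if_pos rfl] at this
    exact zero_ne_one this
  refine SemidirectProduct.ext (funext fun k => hθ ?_) (Equiv.ext hr)
  rw [SemidirectProduct.one_left, Pi.one_apply, map_one]
  ext i j
  have := key i j k k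
  rw [if_pos rfl, hr, if_pos rfl] at this
  rw [this, Matrix.one_apply]

end Block

section Plane

variable {F : Type*} [Field F]

local notation "SL2" => Matrix.SpecialLinearGroup (Fin 2) F
local notation "G2" => GL (Fin 2) F

theorem sqC_sylow_sl2 [Fintype F] (hF : Odd (Fintype.card F)) (Q : Sylow 2 SL2) :
    SqC (Q : Subgroup SL2) := by
  obtain ⟨u, X, hQ⟩ := GroupSub.SpFour.exists_qok hF Q
  rw [sqC_iff, eq_top_iff]
  have hm : (⟨-1, hQ.negMem⟩ : (Q : Subgroup SL2)) ∈ commutator (Q : Subgroup SL2) := by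
    have : (⟨-1, hQ.negMem⟩ : (Q : Subgroup SL2)) = ⁅(⟨u, hQ.uMem⟩ : (Q : Subgroup SL2)), ⟨X, hQ.XMem⟩⁆ := by
      apply Subtype.ext
      show (-1 : SL2) = u * X * u⁻¹ * X⁻¹
      rw [show u * X * u⁻¹ * X⁻¹ = u * X * (X * u)⁻¹ by group, hQ.anti,
        eq_mul_inv_iff_mul_eq, neg_mul_neg, one_mul]
    rw [this, commutator_def]
    exact Subgroup.commutator_mem_commutator (Subgroup.mem_top _) (Subgroup.mem_top _)
  intro x _
  obtain ⟨c, hc, d, hd, hc2, hd2, hx⟩ := hQ.prod x.1 x.2
  rw [show x = (⟨c, hc⟩ : (Q : Subgroup SL2)) * ⟨d, hd⟩ from Subtype.ext hx]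
  refine mul_mem ?_ ?_ <;> refine mem_sqSub.2 ?_ <;> rw [pow_two] <;> convert hm using 1 <;> apply Subtype.ext
  · exact hc2
  · exact hd2

theorem card_sylow_sl2 [Fintype F] (hF : Odd (Fintype.card F)) (Q : Sylow 2 SL2) :
    Nat.card (Q : Subgroup SL2) = 2 ^ padicValNat 2 (Fintype.card F ^ 2 - 1) := by
  haveI : Fact (Nat.Prime 2) := ⟨Nat.prime_two⟩
  have hq := Fintype.one_lt_card (α := F)
  have h2 : ¬ 2 ∣ Fintype.card F := by obtain ⟨r, hr⟩ := hF; omega
  rw [Q.card_eq_multiplicity, factorization_two, Classical.card_sl2,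
    padicValNat.mul (by omega) (pow_sub_one_ne hq two_ne_zero), padicValNat.eq_zero_of_not_dvd h2,
    zero_add]

theorem toSL_mem (T : Subgroup G2) (x : (Matrix.GeneralLinearGroup.det.comp T.subtype).ker) :
    ((x.1.1 : G2) : Matrix (Fin 2) (Fin 2) F).det = 1 := by
  have h := congrArg Units.val (MonoidHom.mem_ker.1 x.2)
  rw [MonoidHom.comp_apply, Units.val_one, Matrix.GeneralLinearGroup.val_det_apply] at h
  exact h

theorem sqC_det_ker [Fintype F] (hF : Odd (Fintype.card F)) (T : Subgroup G2)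
    (hkc : Nat.card (Matrix.GeneralLinearGroup.det.comp T.subtype).ker =
      2 ^ padicValNat 2 (Fintype.card F ^ 2 - 1)) :
    SqC (Matrix.GeneralLinearGroup.det.comp T.subtype).ker := by
  haveI : Fact (Nat.Prime 2) := ⟨Nat.prime_two⟩
  let ψ : (Matrix.GeneralLinearGroup.det.comp T.subtype).ker →* SL2 :=
    { toFun := fun x => ⟨((x.1.1 : G2) : Matrix (Fin 2) (Fin 2) F), toSL_mem T x⟩
      map_one' := Subtype.ext rfl
      map_mul' := fun _ _ => Subtype.ext rfl }
  have hψ : Function.Injective ψ := by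
    intro x y h
    have h' : ((x.1.1 : G2) : Matrix (Fin 2) (Fin 2) F) = ((y.1.1 : G2) : Matrix (Fin 2) (Fin 2) F) :=
      congrArg Subtype.val h
    exact Subtype.ext (Subtype.ext (Units.ext h'))
  let S : Sylow 2 SL2 := Classical.arbitrary _
  have hS : Nat.card ψ.range = 2 ^ (Nat.card SL2).factorization 2 := by
    rw [← S.card_eq_multiplicity, card_sylow_sl2 hF S, ← hkc,
      Nat.card_congr (MonoidHom.ofInjective hψ).toEquiv]
  have h7 := sqC_sylow_sl2 hF (Sylow.ofCard ψ.range hS)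
  rw [Sylow.coe_ofCard] at h7
  exact h7.congr (MonoidHom.ofInjective hψ).symm

/-- The planar data: a Sylow 2-subgroup of `GL₂` containing `diag(t,1)`. -/
theorem exists_plane [Fintype F] (hF : Odd (Fintype.card F)) :
    ∃ (T : Subgroup G2) (δ : T →* Fˣ) (d : T) (t : Fˣ),
      (∀ x : T, δ x = Matrix.GeneralLinearGroup.det (x : G2)) ∧
      Nat.card T = 2 ^ (padicValNat 2 (Fintype.card F ^ 2 - 1) + padicValNat 2 (Fintype.card F - 1)) ∧
      δ d = t ∧ orderOf t = 2 ^ padicValNat 2 (Fintype.card F - 1) ∧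
      (∀ x, ∃ j : ℤ, δ x = t ^ j) ∧ (∀ j : ℤ, t ^ j = 1 → d ^ j = 1) ∧ SqC δ.ker := by
  haveI : Fact (Nat.Prime 2) := ⟨Nat.prime_two⟩
  have hq := Fintype.one_lt_card (α := F)
  have h2 : ¬ 2 ∣ Fintype.card F := by obtain ⟨r, hr⟩ := hF; omega
  have hne : Fintype.card F - 1 ≠ 0 := by omega
  obtain ⟨a, ha⟩ : ∃ a, padicValNat 2 (Fintype.card F - 1) = a := ⟨_, rfl⟩
  rw [ha]
  obtain ⟨g, hg⟩ := IsCyclic.exists_generator (α := Fˣ)
  have hcard : Nat.card Fˣ = Fintype.card F - 1 := Classical.card_units_field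
  have hog : orderOf g = Fintype.card F - 1 := (orderOf_eq_card_of_forall_mem_zpowers hg).trans hcard
  have hda : 2 ^ a ∣ Fintype.card F - 1 := ha ▸ pow_padicValNat_dvd
  obtain ⟨t, ht⟩ : ∃ t, g ^ ((Fintype.card F - 1) / 2 ^ a) = t := ⟨_, rfl⟩
  have hot : orderOf t = 2 ^ a := by
    rw [← ht, orderOf_pow' g (Nat.div_pos (Nat.le_of_dvd (by omega) hda) (by positivity)).ne', hog,
      Nat.gcd_eq_right (Nat.div_dvd_of_dvd hda), Nat.div_div_self hda hne]
  obtain ⟨dgl, hdet⟩ : ∃ dgl : Fˣ →* G2, ∀ s, Matrix.GeneralLinearGroup.det (dgl s) = s :=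
    ⟨{ toFun := fun s => Matrix.GeneralLinearGroup.mkOfDetNeZero !![(s : F), 0; 0, 1] (by simp)
       map_one' := by ext i j; fin_cases i <;> fin_cases j <;> simp
       map_mul' := fun s s' => by
        ext i j; fin_cases i <;> fin_cases j <;> simp [Matrix.mul_apply, Fin.sum_univ_two] },
      fun s => by ext; simp [Matrix.GeneralLinearGroup.val_det_apply]⟩
  have hp : IsPGroup 2 (Subgroup.zpowers (dgl t)) :=
    IsPGroup.of_card (n := a) (by
      rw [Nat.card_zpowers, orderOf_injective dgl (fun s s' h => by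
        have := congrArg Matrix.GeneralLinearGroup.det h
        rwa [hdet, hdet] at this), hot])
  obtain ⟨T, hT⟩ := hp.exists_le_sylow
  have hTc : Nat.card (T : Subgroup G2) = 2 ^ (padicValNat 2 (Fintype.card F ^ 2 - 1) + a) := by
    rw [T.card_eq_multiplicity, factorization_two, Classical.card_gl2,
      padicValNat.mul (by omega) (mul_ne_zero hne (pow_sub_one_ne hq two_ne_zero)),
      padicValNat.mul hne (pow_sub_one_ne hq two_ne_zero), padicValNat.eq_zero_of_not_dvd h2, ha,
      zero_add, add_comm]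
  have hdT : dgl t ∈ (T : Subgroup G2) := hT (Subgroup.mem_zpowers _)
  have hall : ∀ x : (T : Subgroup G2),
      ∃ j : ℤ, Matrix.GeneralLinearGroup.det (x : G2) = t ^ j := by
    intro x
    obtain ⟨k, hk⟩ := T.2 x
    have h1 : orderOf (Matrix.GeneralLinearGroup.det (x : G2)) ∣ 2 ^ k := by
      rw [orderOf_dvd_iff_pow_eq_one, ← map_pow, ← Subgroup.coe_pow, hk, Subgroup.coe_one, map_one]
    have h3 : orderOf (Matrix.GeneralLinearGroup.det (x : G2)) ∣ Fintype.card F - 1 :=
      hcard ▸ orderOf_dvd_natCard _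
    obtain ⟨i, -, hi⟩ := (Nat.dvd_prime_pow Nat.prime_two).1 h1
    have hia : i ≤ a := ha ▸ (padicValNat_dvd_iff_le hne).1 (hi ▸ h3)
    obtain ⟨j, hj⟩ := hg (Matrix.GeneralLinearGroup.det (x : G2))
    have hj' : g ^ j = Matrix.GeneralLinearGroup.det (x : G2) := hj
    have h4 : ((Fintype.card F - 1 : ℕ) : ℤ) ∣ j * (2 ^ a : ℕ) := by
      rw [← hog, orderOf_dvd_iff_zpow_eq_one, _root_.zpow_mul, hj', zpow_natCast,
        ← orderOf_dvd_iff_pow_eq_one, hi]
      exact pow_dvd_pow 2 hia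
    obtain ⟨r, hr⟩ := h4
    refine ⟨r, ?_⟩
    rw [← hj', ← ht, ← zpow_natCast, ← _root_.zpow_mul]
    congr 1
    have h5 : ((Fintype.card F - 1 : ℕ) : ℤ) = ((Fintype.card F - 1) / 2 ^ a : ℕ) * (2 ^ a : ℕ) := by
      rw [← Nat.cast_mul, Nat.div_mul_cancel hda]
    rw [h5] at hr
    have h6 : ((2 ^ a : ℕ) : ℤ) ≠ 0 := by positivity
    apply mul_right_cancel₀ h6
    rw [hr]; ring
  have hd' : ∀ j : ℤ, t ^ j = 1 → (⟨dgl t, hdT⟩ : (T : Subgroup G2)) ^ j = 1 := fun j hj => by
    apply Subtype.ext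
    rw [Subgroup.coe_zpow, ← map_zpow, hj, map_one, Subgroup.coe_one]
  have hr : (Matrix.GeneralLinearGroup.det.comp (T : Subgroup G2).subtype).range =
      Subgroup.zpowers t := by
    refine le_antisymm ?_ (Subgroup.zpowers_le.2 ⟨⟨dgl t, hdT⟩, hdet t⟩)
    rintro _ ⟨x, rfl⟩
    obtain ⟨j, hj⟩ := hall x
    exact ⟨j, hj.symm⟩
  have hkc : Nat.card (Matrix.GeneralLinearGroup.det.comp (T : Subgroup G2).subtype).ker =
      2 ^ padicValNat 2 (Fintype.card F ^ 2 - 1) := by
    have h := Subgroup.card_mul_index (Matrix.GeneralLinearGroup.det.comp (T : Subgroup G2).subtype).ker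
    rw [Subgroup.index_ker, hr, Nat.card_zpowers, hot, hTc, pow_add] at h
    exact Nat.eq_of_mul_eq_mul_right (by positivity) h
  exact ⟨(T : Subgroup G2), Matrix.GeneralLinearGroup.det.comp (T : Subgroup G2).subtype, ⟨dgl t, hdT⟩, t,
    fun _ => rfl, hTc, hdet t, hot, hall, hd', sqC_det_ker hF (T : Subgroup G2) hkc⟩

theorem card_sylow_perm (n : ℕ) (P : Sylow 2 (Equiv.Perm (Fin n))) :
    Nat.card (P : Subgroup (Equiv.Perm (Fin n))) = 2 ^ padicValNat 2 n.factorial := by
  haveI : Fact (Nat.Prime 2) := ⟨Nat.prime_two⟩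
  rw [P.card_eq_multiplicity, factorization_two, Nat.card_perm, Nat.card_fin]

end Plane

end Cfsg.Agent.SylowAbel
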