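import Cfsg.Agent.SylowAbel.Matrix
import Cfsg.Agent.Classical.SympGroup
import Cfsg.Agent.PermGroups.Modules

/-!
# Sylow 2-subgroups of symplectic and special linear groups in odd characteristic
-/

set_option autoImplicit false
set_option maxHeartbeats 400000

namespace Cfsg.Agent.SylowAbel

open Matrix

variable {F : Type*} [Field F] [Fintype F]

local notation "SL2" => Matrix.SpecialLinearGroup (Fin 2) F
local notation "G2" => GL (Fin 2) F

/-- Pairs as a sum. -/
def planeEquiv (n : ℕ) : Fin 2 × Fin n ≃ Fin n ⊕ Fin n where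
  toFun x := if x.1 = 0 then Sum.inl x.2 else Sum.inr x.2
  invFun := Sum.elim (fun k => (0, k)) (fun k => (1, k))
  left_inv := by rintro ⟨i, k⟩; fin_cases i <;> simp
  right_inv := by rintro (k | k) <;> simp

theorem plane_form (n : ℕ) :
    Matrix.reindex (planeEquiv n) (planeEquiv n)
      (blockDiagonal fun _ : Fin n => (!![0, -1; 1, 0] : Matrix (Fin 2) (Fin 2) F)) = Matrix.J (Fin n) F := by
  ext (i | i) (j | j) <;>
    simp [Matrix.J, planeEquiv, Matrix.blockDiagonal_apply, Matrix.one_apply] <;>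
    split_ifs <;> simp

theorem det_mul_form (a : Matrix (Fin 2) (Fin 2) F) :
    a * !![0, -1; 1, 0] * aᵀ = a.det • !![0, -1; 1, 0] := by
  ext i j
  fin_cases i <;> fin_cases j <;> simp [Matrix.det_fin_two, Matrix.mul_apply, Fin.sum_univ_two] <;> ring

theorem factorization_two_card_sl (hF : Odd (Fintype.card F)) (n : ℕ) (hn : 1 ≤ n) :
    (Nat.card (Matrix.SpecialLinearGroup (Fin n) F)).factorization 2 + padicValNat 2 (Fintype.card F - 1) =
      glVal (Fintype.card F) n := by
  haveI : Fact (Nat.Prime 2) := ⟨Nat.prime_two⟩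
  have hq := Fintype.one_lt_card (α := F)
  rw [← val_gl hq hF n, ← Classical.card_sl_mul (F := F) rfl n hn,
    padicValNat.mul (by omega) Nat.card_pos.ne', factorization_two, add_comm]

/-- `Sp_{2n}(q)`. -/
theorem sqC_symplectic (hF : Odd (Fintype.card F)) (n : ℕ) (hn : 1 ≤ n)
    (P : Sylow 2 (Matrix.symplecticGroup (Fin n) F)) :
    SqC (P : Subgroup (Matrix.symplecticGroup (Fin n) F)) := by
  haveI : Fact (Nat.Prime 2) := ⟨Nat.prime_two⟩
  haveI : Nonempty (Fin n) := ⟨⟨0, hn⟩⟩
  have hq := Fintype.one_lt_card (α := F)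
  let Q : Sylow 2 SL2 := Classical.arbitrary _
  let S : Sylow 2 (Equiv.Perm (Fin n)) := Classical.arbitrary _
  let θ : (Q : Subgroup SL2) →* Matrix (Fin 2) (Fin 2) F :=
    { toFun := fun x => ((x : SL2) : Matrix (Fin 2) (Fin 2) F)
      map_one' := rfl
      map_mul' := fun _ _ => rfl }
  have hθ : Function.Injective θ := fun x y h => Subtype.ext (Subtype.ext h)
  let δ : (Q : Subgroup SL2) →* Fˣ := 1
  let Φ : wrSub δ (S : Subgroup (Equiv.Perm (Fin n))) →* Matrix (Fin n ⊕ Fin n) (Fin n ⊕ Fin n) F :=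
    ((Matrix.reindexAlgEquiv F F (planeEquiv n)).toMulEquiv.toMonoidHom.comp (wrHom θ)).comp
      (wrSub δ (S : Subgroup (Equiv.Perm (Fin n)))).subtype
  have hmem : ∀ x, Φ x ∈ Matrix.symplecticGroup (Fin n) F := by
    intro x
    rw [SymplecticGroup.mem_iff]
    show Matrix.reindex _ _ (wrHom θ x.1) * _ * (Matrix.reindex _ _ (wrHom θ x.1))ᵀ = _
    rw [← plane_form]
    simp only [Matrix.reindex_apply, Matrix.transpose_submatrix, Matrix.submatrix_mul_equiv]
    congr 1
    set Pm := (Matrix.permMatrixHom (blkPerm (m := Fin 2) x.1.right) :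
      Matrix (Fin 2 × Fin n) (Fin 2 × Fin n) F) with hPm
    have h1 : Pm * Pmᵀ = 1 := by
      rw [hPm, show (Matrix.permMatrixHom (blkPerm (m := Fin 2) x.1.right) :
        Matrix (Fin 2 × Fin n) (Fin 2 × Fin n) F) = (blkPerm x.1.right)⁻¹.permMatrix F from rfl,
        Matrix.transpose_permMatrix, ← Matrix.permMatrix_mul, inv_inv, mul_inv_cancel,
        Matrix.permMatrix_one]
    rw [wrHom_apply, Matrix.transpose_mul]
    calc blockDiagonal (fun k => θ (x.1.left k)) * Pm * blockDiagonal (fun _ => !![0, -1; 1, 0]) *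
          (Pmᵀ * (blockDiagonal fun k => θ (x.1.left k))ᵀ)
        = blockDiagonal (fun k => θ (x.1.left k)) *
            (Pm * blockDiagonal (fun _ => !![0, -1; 1, 0]) * Pmᵀ) *
          (blockDiagonal fun k => θ (x.1.left k))ᵀ := by simp only [mul_assoc]
      _ = _ := by
        rw [conj_perm, mul_assoc _ Pm, h1, mul_one, Matrix.blockDiagonal_transpose, ← blockDiagonal_mul,
          ← blockDiagonal_mul]
        congr 1
        funext k
        rw [det_mul_form, show (θ (x.1.left k)).det = 1 from (x.1.left k).1.2, one_smul]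
  have hδ : SqC δ.ker := by
    have h : δ.ker = ⊤ := MonoidHom.ker_one
    rw [h]
    exact (sqC_sylow_sl2 hF Q).congr Subgroup.topEquiv.symm
  have hW : SqC (wrSub δ (S : Subgroup (Equiv.Perm (Fin n)))) :=
    sqC_wrSub δ _ (invGen_sylow n S) hδ 1 (fun a => ⟨0, by simp [δ]⟩) (fun j _ => one_zpow j)
      (Or.inl (one_mul 1))
  let f : wrSub δ (S : Subgroup (Equiv.Perm (Fin n))) →* Matrix.symplecticGroup (Fin n) F :=
    Φ.codRestrict _ hmem
  have hf : Function.Injective f := fun x y h => Subtype.ext (wrHom_injective θ hθ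
    ((Matrix.reindexAlgEquiv F F (planeEquiv n)).injective (congrArg Subtype.val h)))
  refine sylow_sqC f hf hW ?_ P
  have h := card_wrSub δ (S : Subgroup (Equiv.Perm (Fin n)))
  rw [show δ.range = ⊥ from MonoidHom.range_one, Subgroup.card_bot, mul_one] at h
  rw [h, card_sylow_sl2 hF Q, card_sylow_perm, Fintype.card_fin, ← pow_mul, ← pow_add,
    Classical.card_symplecticGroup rfl n, factorization_two, val_sp hq hF n]
  ring

theorem padicValNat_sub_one_of_four_dvd (hq : 4 ∣ Fintype.card F + 1) :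
    padicValNat 2 (Fintype.card F - 1) = 1 := by
  haveI : Fact (Nat.Prime 2) := ⟨Nat.prime_two⟩
  obtain ⟨r, hr⟩ := hq
  rw [show Fintype.card F - 1 = 2 * (2 * r - 1) by omega, padicValNat.mul two_ne_zero (by omega),
    padicValNat_self, padicValNat.eq_zero_of_not_dvd (by omega)]

/-- `SL_{2m}(q)`. -/
theorem sqC_sl_even (hF : Odd (Fintype.card F)) (m : ℕ) (hm : 1 ≤ m)
    (hq : 4 ∣ Fintype.card F + 1 ∨ ∃ j : ℕ, m = 2 ^ j)
    (P : Sylow 2 (Matrix.SpecialLinearGroup (Fin (2 * m)) F)) :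
    SqC (P : Subgroup (Matrix.SpecialLinearGroup (Fin (2 * m)) F)) := by
  haveI : Fact (Nat.Prime 2) := ⟨Nat.prime_two⟩
  haveI : Nonempty (Fin m) := ⟨⟨0, hm⟩⟩
  have hq1 := Fintype.one_lt_card (α := F)
  obtain ⟨T, δ, d, t, hdet, hTc, hd, hot, hall, hd', hker⟩ := exists_plane hF
  let S : Sylow 2 (Equiv.Perm (Fin m)) := Classical.arbitrary _
  let θ : T →* Matrix (Fin 2) (Fin 2) F := (Units.coeHom _).comp T.subtype
  have hθ : Function.Injective θ := fun x y h => Subtype.ext (Units.ext h)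
  let Φ : wrSub δ (S : Subgroup (Equiv.Perm (Fin m))) →* Matrix (Fin (2 * m)) (Fin (2 * m)) F :=
    ((Matrix.reindexAlgEquiv F F finProdFinEquiv).toMulEquiv.toMonoidHom.comp (wrHom θ)).comp
      (wrSub δ (S : Subgroup (Equiv.Perm (Fin m)))).subtype
  have hdet1 : ∀ x, (Φ x).det = 1 := by
    intro x
    show (Matrix.reindex _ _ (wrHom θ x.1)).det = 1
    rw [Matrix.det_reindex_self, det_wrHom θ x.1 (by simp)]
    have h := congrArg Units.val x.2.1
    rw [Units.coe_prod, Units.val_one] at h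
    rw [← h]
    refine Finset.prod_congr rfl fun k _ => ?_
    rw [hdet, Matrix.GeneralLinearGroup.val_det_apply]
    rfl
  have hW : SqC (wrSub δ (S : Subgroup (Equiv.Perm (Fin m)))) := by
    refine sqC_wrSub δ _ (invGen_sylow m S) hker d (fun a => hd ▸ hall a) (fun j hj => hd' j (hd ▸ hj)) ?_
    rcases hq with h4 | ⟨j, rfl⟩
    · refine Or.inl ?_
      have h := hd' 2 (by
        rw [show (2 : ℤ) = ((2 : ℕ) : ℤ) from rfl, zpow_natCast, ← orderOf_dvd_iff_pow_eq_one, hot,
          padicValNat_sub_one_of_four_dvd h4, pow_one])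
      rwa [zpow_two] at h
    · refine Or.inr fun k l => ?_
      haveI : MulAction.IsPretransitive (Equiv.Perm (Fin (2 ^ j))) (Fin (2 ^ j)) :=
        ⟨fun x y => ⟨Equiv.swap x y, Equiv.swap_apply_left x y⟩⟩
      haveI := PermGroups.sylow_isPretransitive (Ω := Fin (2 ^ j)) (f := j) (by simp) S
      obtain ⟨σ, hσ⟩ := MulAction.exists_smul_eq (S : Subgroup (Equiv.Perm (Fin (2 ^ j)))) k l
      exact ⟨σ.1, σ.2, hσ⟩
  let f : wrSub δ (S : Subgroup (Equiv.Perm (Fin m))) →* Matrix.SpecialLinearGroup (Fin (2 * m)) F :=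
    { toFun := fun x => ⟨Φ x, hdet1 x⟩
      map_one' := Subtype.ext (map_one Φ)
      map_mul' := fun x y => Subtype.ext (map_mul Φ x y) }
  have hf : Function.Injective f := fun x y h => Subtype.ext (wrHom_injective θ hθ
    ((Matrix.reindexAlgEquiv F F finProdFinEquiv).injective (congrArg Subtype.val h)))
  refine sylow_sqC f hf hW ?_ P
  have hr : Nat.card δ.range = 2 ^ padicValNat 2 (Fintype.card F - 1) := by
    rw [show δ.range = Subgroup.zpowers t from le_antisymm
      (by rintro _ ⟨x, rfl⟩; obtain ⟨j, hj⟩ := hall x; exact ⟨j, hj.symm⟩)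
      (Subgroup.zpowers_le.2 ⟨d, hd⟩), Nat.card_zpowers, hot]
  have h := card_wrSub δ (S : Subgroup (Equiv.Perm (Fin m)))
  rw [hr, hTc, card_sylow_perm, Fintype.card_fin, ← pow_mul, ← pow_add] at h
  have hv := factorization_two_card_sl hF (2 * m) (by omega)
  rw [glVal_even hq1 hF m] at hv
  refine Nat.eq_of_mul_eq_mul_right (Nat.two_pow_pos (padicValNat 2 (Fintype.card F - 1))) ?_
  rw [h, ← pow_add, hv]
  ring

/-- Bordering by the inverse determinant. -/
noncomputable def border {ι : Type*} [Fintype ι] [DecidableEq ι] :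
    Matrix ι ι F →* Matrix (ι ⊕ Fin 1) (ι ⊕ Fin 1) F where
  toFun M := Matrix.fromBlocks M 0 0 (M.det⁻¹ • 1)
  map_one' := by simp
  map_mul' M N := by
    rw [Matrix.fromBlocks_multiply]
    simp [Matrix.det_mul, mul_inv, smul_smul, mul_comm]

theorem det_border {ι : Type*} [Fintype ι] [DecidableEq ι] (M : Matrix ι ι F) (h : M.det ≠ 0) :
    (border M).det = 1 := by
  show (Matrix.fromBlocks M 0 0 (M.det⁻¹ • 1)).det = 1
  rw [Matrix.det_fromBlocks_zero₂₁, Matrix.det_smul, Matrix.det_one, mul_one, Fintype.card_fin, pow_one,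
    mul_inv_cancel₀ h]

/-- `SL_{2m+1}(q)`. -/
theorem sqC_sl_odd (hF : Odd (Fintype.card F)) (hq : 4 ∣ Fintype.card F + 1) (m : ℕ) (hm : 1 ≤ m)
    (P : Sylow 2 (Matrix.SpecialLinearGroup (Fin (2 * m + 1)) F)) :
    SqC (P : Subgroup (Matrix.SpecialLinearGroup (Fin (2 * m + 1)) F)) := by
  haveI : Fact (Nat.Prime 2) := ⟨Nat.prime_two⟩
  haveI : Nonempty (Fin m) := ⟨⟨0, hm⟩⟩
  have hq1 := Fintype.one_lt_card (α := F)
  obtain ⟨T, δ, d, t, hdet, hTc, hd, hot, hall, hd', hker⟩ := exists_plane hF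
  have hdd : d * d = 1 := by
    have h := hd' 2 (by
      rw [show (2 : ℤ) = ((2 : ℕ) : ℤ) from rfl, zpow_natCast, ← orderOf_dvd_iff_pow_eq_one, hot,
        padicValNat_sub_one_of_four_dvd hq, pow_one])
    rwa [zpow_two] at h
  have hT : SqC T := by
    rw [sqC_iff, eq_top_iff]
    intro x _
    obtain ⟨j, hj⟩ := hall x
    have hk : x * (d ^ j)⁻¹ ∈ δ.ker := by
      rw [MonoidHom.mem_ker, map_mul, map_inv, map_zpow, hd, hj, mul_inv_cancel]
    have h1 : x * (d ^ j)⁻¹ ∈ sqSub T :=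
      mem_sqSub_map (x := (⟨x * (d ^ j)⁻¹, hk⟩ : δ.ker)) δ.ker.subtype (mem_sqSub.2 (hker _))
    have h2 : d ^ j ∈ sqSub T := Subgroup.zpow_mem _ (mem_sqSub_of_mul_self hdd) j
    have h3 := Subgroup.mul_mem _ h1 h2
    rwa [inv_mul_cancel_right] at h3
  let S : Sylow 2 (Equiv.Perm (Fin m)) := Classical.arbitrary _
  let ε : T →* Fˣ := 1
  let θ : T →* Matrix (Fin 2) (Fin 2) F := (Units.coeHom _).comp T.subtype
  have hθ : Function.Injective θ := fun x y h => Subtype.ext (Units.ext h)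
  let e : (Fin 2 × Fin m) ⊕ Fin 1 ≃ Fin (2 * m + 1) :=
    (Equiv.sumCongr finProdFinEquiv (Equiv.refl _)).trans finSumFinEquiv
  let Φ : wrSub ε (S : Subgroup (Equiv.Perm (Fin m))) →* Matrix (Fin (2 * m + 1)) (Fin (2 * m + 1)) F :=
    (((Matrix.reindexAlgEquiv F F e).toMulEquiv.toMonoidHom.comp border).comp (wrHom θ)).comp
      (wrSub ε (S : Subgroup (Equiv.Perm (Fin m)))).subtype
  have hdet1 : ∀ x, (Φ x).det = 1 := by
    intro x
    show (Matrix.reindex _ _ (border (wrHom θ x.1))).det = 1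
    rw [Matrix.det_reindex_self, det_border]
    rw [det_wrHom θ x.1 (by simp), Finset.prod_ne_zero_iff]
    intro k _
    exact ((x.1.left k : G2).isUnit.map (Matrix.detMonoidHom)).ne_zero
  have hε : SqC ε.ker := by
    rw [show ε.ker = ⊤ from MonoidHom.ker_one]
    exact hT.congr Subgroup.topEquiv.symm
  have hW : SqC (wrSub ε (S : Subgroup (Equiv.Perm (Fin m)))) :=
    sqC_wrSub ε _ (invGen_sylow m S) hε 1 (fun a => ⟨0, by simp [ε]⟩) (fun j _ => one_zpow j)
      (Or.inl (one_mul 1))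
  let f : wrSub ε (S : Subgroup (Equiv.Perm (Fin m))) →* Matrix.SpecialLinearGroup (Fin (2 * m + 1)) F :=
    { toFun := fun x => ⟨Φ x, hdet1 x⟩
      map_one' := Subtype.ext (map_one Φ)
      map_mul' := fun x y => Subtype.ext (map_mul Φ x y) }
  have hf : Function.Injective f := fun x y h => by
    have h1 : border (wrHom θ x.1) = border (wrHom θ y.1) :=
      (Matrix.reindexAlgEquiv F F e).injective (congrArg Subtype.val h)
    have h2 := congrArg Matrix.toBlocks₁₁ h1
    exact Subtype.ext (wrHom_injective θ hθ (by simpa [border] using h2))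
  refine sylow_sqC f hf hW ?_ P
  have h := card_wrSub ε (S : Subgroup (Equiv.Perm (Fin m)))
  rw [show ε.range = ⊥ from MonoidHom.range_one, Subgroup.card_bot, mul_one] at h
  rw [h, hTc, card_sylow_perm, Fintype.card_fin, ← pow_mul, ← pow_add]
  have hv := factorization_two_card_sl hF (2 * m + 1) (by omega)
  rw [glVal_odd hq1 hF m, glVal_even hq1 hF m] at hv
  congr 1
  have : (Nat.card (Matrix.SpecialLinearGroup (Fin (2 * m + 1)) F)).factorization 2 =
      m * (padicValNat 2 (Fintype.card F - 1) + padicValNat 2 (Fintype.card F ^ 2 - 1)) +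
        padicValNat 2 m.factorial := by omega
  rw [this]
  ring

end Cfsg.Agent.SylowAbel
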