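import Mathlib

/-!
# Groups whose abelianization has exponent two

`SqC G` says that every square lies in the derived subgroup. It holds as soon as it holds on
generators, passes to homomorphic images, and for a Sylow 2-subgroup it can be read off from any
injectively embedded 2-group of full order.
-/

set_option autoImplicit false

namespace Cfsg.Agent.SylowAbel

/-- Every square lies in the derived subgroup. -/
def SqC (G : Type*) [Group G] : Prop := ∀ x : G, x ^ 2 ∈ commutator G

/-- The elements whose square lies in the derived subgroup. -/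
def sqSub (G : Type*) [Group G] : Subgroup G :=
  ((powMonoidHom 2 : Abelianization G →* Abelianization G).comp Abelianization.of).ker

theorem mem_sqSub {G : Type*} [Group G] {x : G} : x ∈ sqSub G ↔ x ^ 2 ∈ commutator G := by
  rw [← Abelianization.ker_of, sqSub, MonoidHom.mem_ker, MonoidHom.mem_ker, MonoidHom.comp_apply,
    powMonoidHom_apply, map_pow]

theorem sqC_iff {G : Type*} [Group G] : SqC G ↔ sqSub G = ⊤ :=
  ⟨fun h => eq_top_iff.2 fun x _ => mem_sqSub.2 (h x), fun h x => mem_sqSub.1 (h ▸ Subgroup.mem_top x)⟩

theorem mem_sqSub_of_mul_self {G : Type*} [Group G] {x : G} (h : x * x = 1) : x ∈ sqSub G :=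
  mem_sqSub.2 (by rw [pow_two, h]; exact one_mem _)

theorem mem_sqSub_map {G H : Type*} [Group G] [Group H] (f : G →* H) {x : G} (h : x ∈ sqSub G) :
    f x ∈ sqSub H := by
  refine mem_sqSub.2 ?_
  rw [← map_pow]
  have hle : (commutator G).map f ≤ commutator H := by
    rw [commutator_def, commutator_def, Subgroup.map_commutator]
    exact Subgroup.commutator_mono le_top le_top
  exact hle (Subgroup.mem_map_of_mem f (mem_sqSub.1 h))

theorem SqC.of_surjective {G H : Type*} [Group G] [Group H] (hG : SqC G) (f : G →* H)
    (hf : Function.Surjective f) : SqC H := by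
  intro y
  obtain ⟨x, rfl⟩ := hf y
  exact mem_sqSub.1 (mem_sqSub_map f (mem_sqSub.2 (hG x)))

theorem SqC.congr {G H : Type*} [Group G] [Group H] (hG : SqC G) (e : G ≃* H) : SqC H :=
  hG.of_surjective e.toMonoidHom e.surjective

/-- A 2-group of full order with the property gives it to every Sylow 2-subgroup. -/
theorem sylow_sqC {G W : Type*} [Group G] [Finite G] [Group W] (f : W →* G) (hf : Function.Injective f)
    (hW : SqC W) (hcard : Nat.card W = 2 ^ (Nat.card G).factorization 2) (P : Sylow 2 G) :
    SqC (P : Subgroup G) := by
  have hc : Nat.card f.range = 2 ^ (Nat.card G).factorization 2 := by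
    rw [← hcard, Nat.card_congr (MonoidHom.ofInjective hf).toEquiv]
  haveI : Fact (Nat.Prime 2) := ⟨Nat.prime_two⟩
  let S : Sylow 2 G := Sylow.ofCard f.range hc
  have h1 : SqC (S : Subgroup G) := by
    rw [show (S : Subgroup G) = f.range from Sylow.coe_ofCard _ _]
    exact hW.congr (MonoidHom.ofInjective hf)
  exact h1.congr (Sylow.equiv S P)

/-- Reading the predicate in the form of the statements. -/
theorem SqC.statement {G : Type*} [Group G] {P : Subgroup G} (h : SqC P) :
    ∀ x : P, x ^ 2 ∈ commutator P := h

end Cfsg.Agent.SylowAbel
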