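import Cfsg.Agent.SymSylow.Basic
import Cfsg.Agent.SylowAbel.Basic

/-!
# Sylow 2-subgroups of symmetric groups are generated by involutions
-/

set_option autoImplicit false

namespace Cfsg.Agent.SylowAbel

open Equiv Cfsg.Agent.SymSylow

/-- Generated by elements squaring to one. -/
def InvGen {G : Type*} [Group G] (P : Subgroup G) : Prop :=
  P ≤ Subgroup.closure {x | x ∈ P ∧ x * x = 1}

theorem exists_invol_lift (n : ℕ) {s : Perm (Fin (n / 2))} (hs : s * s = 1) :
    ∃ σ : pairCentralizer n, σ * σ = 1 ∧ pairAction n σ = s := by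
  have hss : s.symm = s := by
    rw [← Perm.inv_def]; exact inv_eq_of_mul_eq_one_right hs
  have hinv : ∀ x, pairLift n s (pairLift n s x) = x := fun x => by
    have := pairLift_symm n s x
    rwa [hss] at this
  let σ : Perm (Fin n) := Function.Involutive.toPerm (pairLift n s) hinv
  have hσ : σ ∈ pairCentralizer n := by
    rw [mem_pairCentralizer]
    intro x
    apply Fin.ext
    show (pairLift n s (partner n x)).val = (partner n (pairLift n s x)).val
    by_cases h : x.val < 2 * (n / 2)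
    · have h' : (partner n x).val < 2 * (n / 2) := by rw [partner_val]; split_ifs <;> omega
      have he : (⟨(partner n x).val / 2, by omega⟩ : Fin (n / 2)) = ⟨x.val / 2, by omega⟩ :=
        Fin.ext (partner_div x)
      have hm := partner_mod x h
      have := (s ⟨x.val / 2, by omega⟩).isLt
      simp only [pairLift, dif_pos h, dif_pos h', he]
      generalize (partner n x).val = a at hm ⊢
      rw [partner_val]
      dsimp only
      split_ifs <;> omega
    · have h1 : partner n x = x := (partner_eq_self_iff n x).2 (by omega)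
      simp only [pairLift, h1, dif_neg h]
  refine ⟨⟨σ, hσ⟩, Subtype.ext (Equiv.ext hinv), ?_⟩
  ext k
  rw [pairAction_apply]
  show (pairLift n s _).val / 2 = _
  have hk : 2 * k.val < 2 * (n / 2) := by omega
  simp only [pairLift, dif_pos hk]
  have he : (⟨2 * k.val / 2, by omega⟩ : Fin (n / 2)) = k := Fin.ext (by simp only; omega)
  rw [he]
  omega

/-- A Sylow 2-subgroup of a symmetric group is generated by involutions. -/
theorem invGen_sylow (n : ℕ) (P : Sylow 2 (Perm (Fin n))) : InvGen (P : Subgroup (Perm (Fin n))) := by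
  induction n using Nat.strong_induction_on with
  | _ n ih =>
  haveI : Fact (Nat.Prime 2) := ⟨Nat.prime_two⟩
  by_cases hn : n ≤ 1
  · intro g _
    have : Subsingleton (Fin n) := ⟨fun a b => Fin.ext (by omega)⟩
    rw [Subsingleton.elim g 1]
    exact Subgroup.one_mem _
  obtain ⟨h, Q, hE, rfl⟩ := exists_pairGroup_le n P
  suffices hQ : InvGen (Q : Subgroup (Perm (Fin n))) by
    intro g hg
    rw [Sylow.coe_subgroup_smul, Subgroup.mem_pointwise_smul_iff_inv_smul_mem] at hg
    have h2 := Subgroup.mem_map_of_mem (MulAut.conj h).toMonoidHom (hQ hg)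
    rw [MonoidHom.map_closure] at h2
    have hgen : (MulAut.conj h).toMonoidHom '' {x | x ∈ (Q : Subgroup (Perm (Fin n))) ∧ x * x = 1} ⊆
        {x | x ∈ ((h • Q : Sylow 2 (Perm (Fin n))) : Subgroup (Perm (Fin n))) ∧ x * x = 1} := by
      rintro _ ⟨x, ⟨hx, hxx⟩, rfl⟩
      refine ⟨?_, by rw [← map_mul, hxx, map_one]⟩
      rw [Sylow.coe_subgroup_smul]
      exact Subgroup.smul_mem_pointwise_smul _ _ _ hx
    have h3 := Subgroup.closure_mono hgen h2
    simpa [MulAut.smul_def, MulAut.inv_def, mul_assoc] using h3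
  have hQW : (Q : Subgroup (Perm (Fin n))) ≤ pairCentralizer n := fun x hx =>
    mem_pairCentralizer.2 (commute_of_normalizes Q.2 hE x (Subgroup.le_normalizer hx))
  set Q0 : Subgroup (pairCentralizer n) := (Q : Subgroup (Perm (Fin n))).subgroupOf (pairCentralizer n) with hQ0
  have hp0 : IsPGroup 2 Q0 := Q.2.comap_subtype
  have hker : (pairAction n).ker ≤ Q0 := fun σ hσ => hE (pairAction_ker_le n σ (MonoidHom.mem_ker.1 hσ))
  have hp1 : IsPGroup 2 (Q0.map (pairAction n)) := hp0.map _
  obtain ⟨S', hS'⟩ := hp1.exists_le_sylow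
  have hkp : IsPGroup 2 (pairAction n).ker := hp0.to_le hker
  have hpre : IsPGroup 2 ((S' : Subgroup (Perm (Fin (n / 2)))).comap (pairAction n)) :=
    S'.2.comap_of_ker_isPGroup _ hkp
  have hQe : ((S' : Subgroup (Perm (Fin (n / 2)))).comap (pairAction n)).map (pairCentralizer n).subtype =
      (Q : Subgroup (Perm (Fin n))) := by
    refine Q.3 (hpre.map _) fun x hx => ?_
    exact ⟨⟨x, hQW hx⟩, hS' ⟨⟨x, hQW hx⟩, hx, rfl⟩, rfl⟩
  set T : Set (Perm (Fin n)) := {x | x ∈ (Q : Subgroup (Perm (Fin n))) ∧ x * x = 1} with hT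
  have key : ∀ s, s ∈ Subgroup.closure {x | x ∈ (S' : Subgroup (Perm (Fin (n / 2)))) ∧ x * x = 1} →
      ∃ σ : pairCentralizer n, pairAction n σ = s ∧ (σ : Perm (Fin n)) ∈ Subgroup.closure T := by
    intro s hs
    induction hs using Subgroup.closure_induction with
    | mem s hs =>
      obtain ⟨σ, hσ, hσs⟩ := exists_invol_lift n hs.2
      refine ⟨σ, hσs, Subgroup.subset_closure ⟨?_, by rw [← Subgroup.coe_mul, hσ, Subgroup.coe_one]⟩⟩
      rw [← hQe]
      exact ⟨σ, by rw [SetLike.mem_coe, Subgroup.mem_comap, hσs]; exact hs.1, rfl⟩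
    | one => exact ⟨1, map_one _, one_mem _⟩
    | mul a b _ _ ha hb =>
      obtain ⟨σ, rfl, hσ⟩ := ha
      obtain ⟨τ, rfl, hτ⟩ := hb
      exact ⟨σ * τ, map_mul _ _ _, mul_mem hσ hτ⟩
    | inv a _ ha =>
      obtain ⟨σ, rfl, hσ⟩ := ha
      exact ⟨σ⁻¹, map_inv _ _, inv_mem hσ⟩
  intro x hx
  rw [← hQe] at hx
  obtain ⟨y, hy, rfl⟩ := hx
  obtain ⟨σ, hσy, hσT⟩ := key _ (ih (n / 2) (by omega) S' hy)
  have hk : σ⁻¹ * y ∈ (pairAction n).ker := by
    rw [MonoidHom.mem_ker, map_mul, map_inv, hσy, inv_mul_cancel]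
  have hk' : ((σ⁻¹ * y : pairCentralizer n) : Perm (Fin n)) ∈ Subgroup.closure T :=
    Subgroup.subset_closure ⟨hE (pairAction_ker_le n _ (MonoidHom.mem_ker.1 hk)),
      pairGroup_sq n _ (pairAction_ker_le n _ (MonoidHom.mem_ker.1 hk))⟩
  have := mul_mem hσT hk'
  simpa using this

end Cfsg.Agent.SylowAbel
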