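import Cfsg.Agent.SylowAbel.Basic
import Cfsg.Agent.SylowAbel.Perm

/-!
# The kernel of the product character in a wreath product with a 2-group of permutations
-/

set_option autoImplicit false

namespace Cfsg.Agent.SylowAbel

variable (A : Type*) [Group A] (o : Type*)

/-- Permutations act on tuples. -/
def permAut : Equiv.Perm o →* MulAut (o → A) where
  toFun σ :=
    { toFun := fun f k => f (σ.symm k)
      invFun := fun f k => f (σ k)
      left_inv := fun f => by funext k; simp
      right_inv := fun f => by funext k; simp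
      map_mul' := fun _ _ => rfl }
  map_one' := by ext f k; rfl
  map_mul' _ _ := by ext f k; rfl

/-- The wreath product. -/
abbrev Wr := SemidirectProduct (o → A) (Equiv.Perm o) (permAut A o)

variable {A} {o} {C : Type*} [CommGroup C] [Fintype o]

/-- Tuples with trivial product of `δ`, extended by `P`. -/
def wrSub (δ : A →* C) (P : Subgroup (Equiv.Perm o)) : Subgroup (Wr A o) where
  carrier := {x | ∏ k, δ (x.left k) = 1 ∧ x.right ∈ P}
  one_mem' := ⟨by simp, one_mem _⟩
  mul_mem' := by
    rintro x y ⟨hx, hx'⟩ ⟨hy, hy'⟩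
    refine ⟨?_, mul_mem hx' hy'⟩
    show ∏ k, δ (x.left k * y.left (x.right.symm k)) = 1
    simp only [map_mul, Finset.prod_mul_distrib]
    rw [hx, one_mul, Equiv.prod_comp x.right.symm fun k => δ (y.left k), hy]
  inv_mem' := by
    rintro x ⟨hx, hx'⟩
    refine ⟨?_, inv_mem hx'⟩
    show ∏ k, δ ((x.left (x.right⁻¹.symm k))⁻¹) = 1
    simp only [map_inv, Finset.prod_inv_distrib]
    rw [Equiv.prod_comp (x.right⁻¹).symm fun k => δ (x.left k), hx, inv_one]

/-- The order of the subgroup. -/
theorem card_wrSub [Finite A] [Nonempty o] (δ : A →* C) (P : Subgroup (Equiv.Perm o)) :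
    Nat.card (wrSub δ P) * Nat.card δ.range =
      Nat.card A ^ Fintype.card o * Nat.card P := by
  classical
  let π : (o → A) →* C := ∏ k, δ.comp (Pi.evalMonoidHom (fun _ => A) k)
  have hπ : ∀ f, π f = ∏ k, δ (f k) := fun f => by simp [π]
  let e : wrSub δ P ≃ π.ker × P :=
    { toFun := fun x => (⟨x.1.left, by rw [MonoidHom.mem_ker, hπ]; exact x.2.1⟩, ⟨x.1.right, x.2.2⟩)
      invFun := fun y => ⟨⟨y.1.1, y.2.1⟩, by rw [← hπ]; exact MonoidHom.mem_ker.1 y.1.2, y.2.2⟩
      left_inv := fun _ => rfl
      right_inv := fun _ => rfl }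
  have hr : π.range = δ.range := by
    refine le_antisymm ?_ ?_
    · rintro _ ⟨f, rfl⟩
      rw [hπ]
      exact prod_mem fun k _ => ⟨f k, rfl⟩
    · rintro _ ⟨a, rfl⟩
      refine ⟨Pi.mulSingle (Classical.arbitrary o) a, ?_⟩
      rw [hπ, Finset.prod_eq_single (Classical.arbitrary o)]
      · simp
      · intro b _ hb; simp [hb]
      · simp
  have hπc : Nat.card π.ker * Nat.card δ.range = Nat.card A ^ Fintype.card o := by
    rw [← hr, ← Subgroup.index_ker, Subgroup.card_mul_index, Nat.card_fun, Nat.card_eq_fintype_card (α := o)]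
  rw [Nat.card_congr e, Nat.card_prod, mul_right_comm, hπc]

section Sq

variable [DecidableEq o] (δ : A →* C) (P : Subgroup (Equiv.Perm o))

/-- One coordinate, inside the subgroup. -/
def single (k : o) : δ.ker →* wrSub δ P where
  toFun a := ⟨SemidirectProduct.inl (Pi.mulSingle k (a : A)), by
    refine ⟨?_, one_mem _⟩
    rw [Finset.prod_eq_one]
    intro l _
    by_cases h : l = k
    · subst h; simpa using MonoidHom.mem_ker.1 a.2
    · simp [h]⟩
  map_one' := by apply Subtype.ext; simp
  map_mul' a b := by apply Subtype.ext; simp [Pi.mulSingle_mul]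

/-- The permutations, inside the subgroup. -/
def permIn : P →* wrSub δ P where
  toFun σ := ⟨SemidirectProduct.inr (σ : Equiv.Perm o), by simp, σ.2⟩
  map_one' := by apply Subtype.ext; simp
  map_mul' a b := by apply Subtype.ext; simp

/-- A pair of coordinates carrying `d` and its inverse. -/
def pair (d : A) (k l : o) : wrSub δ P :=
  ⟨SemidirectProduct.inl (Pi.mulSingle k d * (Pi.mulSingle l d)⁻¹), by
    refine ⟨?_, one_mem _⟩
    have hs : ∀ l : o, ∏ m, δ ((Pi.mulSingle l d : o → A) m) = δ d := fun l => by
      rw [Finset.prod_eq_single l (fun b _ hb => by simp [hb]) (by simp), Pi.mulSingle_eq_same]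
    show ∏ m, δ ((Pi.mulSingle k d * (Pi.mulSingle l d)⁻¹ : o → A) m) = 1
    simp only [Pi.mul_apply, Pi.inv_apply, map_mul, map_inv, Finset.prod_mul_distrib,
      Finset.prod_inv_distrib, hs, mul_inv_cancel]⟩

/-- Every square lies in the derived subgroup. -/
theorem sqC_wrSub (hP : InvGen P) (hQ : SqC δ.ker) (d : A)
    (hd : ∀ a, ∃ j : ℤ, δ a = δ d ^ j) (hd' : ∀ j : ℤ, δ d ^ j = 1 → d ^ j = 1)
    (hsw : d * d = 1 ∨ ∀ k l : o, ∃ σ ∈ P, σ k = l) : SqC (wrSub δ P) := by
  classical
  rw [sqC_iff, eq_top_iff]
  set S := sqSub (wrSub δ P) with hS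
  have hperm : ∀ σ : P, permIn δ P σ ∈ S := by
    intro σ
    have hcl : ∀ g ∈ Subgroup.closure {x | x ∈ P ∧ x * x = 1},
        ∃ h : g ∈ P, permIn δ P ⟨g, h⟩ ∈ S := by
      intro g hg
      induction hg using Subgroup.closure_induction with
      | mem g hg =>
        refine ⟨hg.1, mem_sqSub_of_mul_self ?_⟩
        rw [← map_mul, show (⟨g, hg.1⟩ : P) * ⟨g, hg.1⟩ = 1 from Subtype.ext hg.2, map_one]
      | one => exact ⟨one_mem _, by rw [show (⟨1, _⟩ : P) = 1 from rfl, map_one]; exact one_mem _⟩
      | mul a b _ _ ha hb =>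
        obtain ⟨ha, ha'⟩ := ha
        obtain ⟨hb, hb'⟩ := hb
        exact ⟨mul_mem ha hb, by
          rw [show (⟨a * b, mul_mem ha hb⟩ : P) = ⟨a, ha⟩ * ⟨b, hb⟩ from rfl, map_mul]
          exact mul_mem ha' hb'⟩
      | inv a _ ha =>
        obtain ⟨ha, ha'⟩ := ha
        exact ⟨inv_mem ha, by
          rw [show (⟨a⁻¹, inv_mem ha⟩ : P) = ⟨a, ha⟩⁻¹ from rfl, map_inv]
          exact inv_mem ha'⟩
    obtain ⟨_, h⟩ := hcl σ.1 (hP σ.2)
    exact h
  have hsingle : ∀ (k : o) (a : δ.ker), single δ P k a ∈ S := fun k a =>
    mem_sqSub_map _ (mem_sqSub.2 (hQ a))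
  have hpair : ∀ k l : o, pair δ P d k l ∈ S := by
    rcases hsw with h2 | htr
    · intro k l
      refine mem_sqSub_of_mul_self (Subtype.ext ?_)
      show SemidirectProduct.inl _ * SemidirectProduct.inl _ = 1
      rw [← map_mul, show ((Pi.mulSingle k d * (Pi.mulSingle l d)⁻¹) *
        (Pi.mulSingle k d * (Pi.mulSingle l d)⁻¹) : o → A) = 1 from ?_, map_one]
      have h2' : d⁻¹ = d := inv_eq_of_mul_eq_one_right h2
      funext m
      by_cases hk : m = k <;> by_cases hl : m = l <;>
        simp_all [Pi.mulSingle_apply]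
    · have htrans : ∀ σ ∈ Subgroup.closure {x | x ∈ P ∧ x * x = 1}, ∀ k, pair δ P d k (σ k) ∈ S := by
        intro σ hσ
        induction hσ using Subgroup.closure_induction with
        | mem σ hσ =>
          intro k
          refine mem_sqSub.2 ?_
          have hc : permIn δ P ⟨σ, hσ.1⟩ * pair δ P d k (σ k) * (permIn δ P ⟨σ, hσ.1⟩)⁻¹ *
              (pair δ P d k (σ k))⁻¹ = (pair δ P d k (σ k) ^ 2)⁻¹ := by
            have hss : σ.symm = σ := by
              rw [← Equiv.Perm.inv_def]; exact inv_eq_of_mul_eq_one_right hσ.2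
            have hσσ : ∀ m, σ (σ m) = m := fun m => by
              rw [← Equiv.Perm.mul_apply, hσ.2, Equiv.Perm.one_apply]
            have hconj : permIn δ P ⟨σ, hσ.1⟩ * pair δ P d k (σ k) * (permIn δ P ⟨σ, hσ.1⟩)⁻¹ =
                (pair δ P d k (σ k))⁻¹ := by
              apply Subtype.ext
              show SemidirectProduct.inr σ * SemidirectProduct.inl _ * (SemidirectProduct.inr σ)⁻¹ =
                (SemidirectProduct.inl _)⁻¹
              rw [← map_inv, ← SemidirectProduct.inl_aut, ← map_inv]
              congr 1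
              rw [mul_inv_rev, inv_inv]
              funext m
              show (Pi.mulSingle k d * (Pi.mulSingle (σ k) d)⁻¹ : o → A) (σ.symm m) = _
              rw [hss]
              simp only [Pi.mul_apply, Pi.inv_apply]
              by_cases h1 : m = k
              · subst h1
                by_cases h3 : σ m = m
                · simp [h3]
                · simp [h3, Ne.symm h3]
              · by_cases h2 : m = σ k
                · subst h2
                  have h3 : σ k ≠ k := h1
                  simp [hσσ, h3, Ne.symm h3]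
                · have h3 : σ m ≠ k := fun e => h2 (by rw [← e, hσσ])
                  have h4 : σ m ≠ σ k := fun e => h1 (σ.injective e)
                  simp [h1, h2, h3, h4]
            rw [hconj, pow_two, mul_inv_rev]
          rw [← inv_inv (pair δ P d k (σ k) ^ 2), ← hc]
          refine inv_mem ?_
          rw [← commutatorElement_def, commutator_def]
          exact Subgroup.commutator_mem_commutator (Subgroup.mem_top _) (Subgroup.mem_top _)
        | one =>
          intro k
          refine mem_sqSub_of_mul_self (Subtype.ext ?_)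
          simp [pair]
        | mul a b _ _ ha hb =>
          intro k
          have := mul_mem (hb k) (ha (b k))
          convert this using 1
          apply Subtype.ext
          show SemidirectProduct.inl _ = SemidirectProduct.inl _ * SemidirectProduct.inl _
          rw [← map_mul]
          congr 1
          simp [Equiv.Perm.mul_apply, mul_assoc]
        | inv a _ ha =>
          intro k
          have := inv_mem (ha (a⁻¹ k))
          convert this using 1
          apply Subtype.ext
          show SemidirectProduct.inl _ = (SemidirectProduct.inl _)⁻¹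
          rw [← map_inv]
          congr 1
          simp
      intro k l
      obtain ⟨σ, hσ, rfl⟩ := htr k l
      exact htrans σ (hP hσ) k
  intro x _
  -- split off the permutation
  set f : o → A := x.1.left with hf
  have hfx : ∏ k, δ (f k) = 1 := x.2.1
  choose j hj using fun k => hd (f k)
  set q : o → δ.ker := fun k => ⟨f k * (d ^ j k)⁻¹, by
    rw [MonoidHom.mem_ker, map_mul, map_inv, map_zpow, hj, mul_inv_cancel]⟩ with hq
  -- the part in the kernel
  have h1 : ∀ m : Finset o, ∃ y ∈ S, (y : Wr A o) =
      SemidirectProduct.inl fun k => if k ∈ m then (q k : A) else 1 := by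
    intro m
    induction m using Finset.induction with
    | empty => exact ⟨1, one_mem _, (map_one SemidirectProduct.inl).symm.trans (congrArg _ (funext fun k => by simp))⟩
    | insert a m ha ih =>
      obtain ⟨y, hy, hy'⟩ := ih
      refine ⟨single δ P a (q a) * y, mul_mem (hsingle _ _) hy, ?_⟩
      rw [Subgroup.coe_mul, hy']
      show SemidirectProduct.inl _ * SemidirectProduct.inl _ = _
      rw [← map_mul]
      congr 1
      funext k
      by_cases h : k = a
      · subst h; simp [ha]
      · simp [h]
  -- the torus part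
  have h2 : ∀ (m : Finset o) (k₀ : o), ∃ y ∈ S, (y : Wr A o) = SemidirectProduct.inl
      ((fun k => if k ∈ m then d ^ j k else 1) * Pi.mulSingle k₀ (d ^ (-∑ k ∈ m, j k))) := by
    intro m k₀
    induction m using Finset.induction with
    | empty => exact ⟨1, one_mem _, by simp [Pi.mulSingle_one]; rfl⟩
    | insert a m ha ih =>
      obtain ⟨y, hy, hy'⟩ := ih
      refine ⟨pair δ P d a k₀ ^ j a * y, mul_mem (zpow_mem (hpair _ _) _) hy, ?_⟩
      rw [Subgroup.coe_mul, Subgroup.coe_zpow, hy']
      show (SemidirectProduct.inl _) ^ j a * SemidirectProduct.inl _ = _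
      rw [← map_zpow, ← map_mul]
      congr 1
      funext k
      simp only [Pi.mul_apply, Pi.pow_apply, Pi.inv_apply, Finset.sum_insert ha]
      by_cases h : k = a
      · subst h
        by_cases h0 : k = k₀
        · subst h0
          simp [ha]
          rw [← zpow_neg, ← zpow_add]
          congr 1; ring
        · simp [ha, h0]
      · by_cases h0 : k = k₀
        · subst h0
          simp only [Pi.mulSingle_eq_same, Pi.mulSingle_eq_of_ne h, one_mul, Finset.mem_insert, h,
            false_or]
          split_ifs <;> simp only [one_mul, inv_zpow', ← zpow_add] <;> congr 1 <;> ring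
        · simp [h, h0]
  rcases isEmpty_or_nonempty o with he | ⟨⟨k₀⟩⟩
  · have hx1 : x = permIn δ P ⟨x.1.right, x.2.2⟩ := by
      apply Subtype.ext
      refine SemidirectProduct.ext ?_ rfl
      funext k
      exact (IsEmpty.false k).elim
    rw [hx1]
    exact hperm _
  obtain ⟨y₁, hy₁, hy₁'⟩ := h1 Finset.univ
  obtain ⟨y₂, hy₂, hy₂'⟩ := h2 Finset.univ k₀
  have hsum : d ^ (-∑ k, j k) = 1 := by
    refine hd' _ ?_
    have : ∏ k, δ d ^ j k = δ d ^ ∑ k, j k := by
      induction (Finset.univ : Finset o) using Finset.induction with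
      | empty => simp
      | insert a m ha ih => rw [Finset.prod_insert ha, Finset.sum_insert ha, zpow_add, ih]
    rw [zpow_neg, inv_eq_one, ← this, ← hfx]
    exact Finset.prod_congr rfl fun k _ => (hj k).symm
  have hx : x = y₁ * y₂ * permIn δ P ⟨x.1.right, x.2.2⟩ := by
    apply Subtype.ext
    rw [Subgroup.coe_mul, Subgroup.coe_mul, hy₁', hy₂', hsum, ← map_mul]
    show x.1 = SemidirectProduct.inl _ * SemidirectProduct.inr x.1.right
    conv_lhs => rw [← SemidirectProduct.inl_left_mul_inr_right x.1]
    congr 2
    funext k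
    simp [q, f]
  rw [hx]
  exact mul_mem (mul_mem hy₁ hy₂) (hperm _)

end Sq

end Cfsg.Agent.SylowAbel
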